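import Mathlib
import Groth.Prelude.Def_Wider
import Groth.Prelude.Def_CAlg
import Groth.Agent.H44.HL_C1
import Groth.Agent.H44.HL_E
import Groth.Agent.H84.HL_G
import Groth.Agent.H84.HL_K
import Groth.Agent.H84.HL_CPL
import Groth.Agent.H20.HL_D1
import Groth.Agent.S0581
import Groth.Agent.S11641
import Groth.Agent.S11617
import Groth.Agent.S0333
import Groth.Agent.H79.CIPres
import Groth.Agent.H61.PowerSeriesComplete
import Groth.Agent.H61.ObsDimMain
import Groth.Agent.H11.MvPSN2
import Groth.Agent.H54.IntegralDim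

/-!
# Hartshorne–Lichtenbaum vanishing: assembly (helper55)
-/

set_option autoImplicit false
set_option linter.style.haveILetI false
universe u
open IsLocalRing

namespace Groth.Agent.H55.HL


/-- (C) complete local domain, prime of dimension one. -/
theorem complete_domain_case (R : Type u) [CommRing R] [IsDomain R] [IsLocalRing R]
    [IsNoetherianRing R] [IsAdicComplete (maximalIdeal R) R] (d : ℕ) (hd : ringKrullDim R = d)
    (p : Ideal R) [p.IsPrime] (hp : ringKrullDim (R ⧸ p) = 1) :
    Subsingleton (LocCoh.H p d R) := by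
  obtain ⟨Λ, _, n, f, hΛ, hinj, hfin, hres⟩ := Groth.Agent.S0581.result R
  haveI hreg : IsRegularLocalRing (MvPowerSeries (Fin n) Λ) :=
    Groth.Agent.H79.CIPres.isRegularLocalRing_of_field_or_cohen Λ hΛ n
  haveI hdom : IsDomain (MvPowerSeries (Fin n) Λ) := by
    rcases hΛ with h | ⟨hd, -, -, -⟩
    · have := h.isDomain
      exact Groth.Agent.H11.MvPSN2.isDomain_mvPowerSeries Λ n
    · exact Groth.Agent.H11.MvPSN2.isDomain_mvPowerSeries Λ n
  haveI hcomplP : IsAdicComplete (maximalIdeal (MvPowerSeries (Fin n) Λ))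
      (MvPowerSeries (Fin n) Λ) := by
    rcases hΛ with h | ⟨hd, hdvr, hc, -⟩
    · let _ := h.toField
      have := Groth.Agent.H61.Obs.field_isAdicComplete Λ
      exact Groth.Agent.H61.PS.isAdicComplete
    · exact Groth.Agent.H61.PS.isAdicComplete
  letI : Algebra (MvPowerSeries (Fin n) Λ) R := f.toAlgebra
  haveI hfin' : Module.Finite (MvPowerSeries (Fin n) Λ) R := hfin
  have hinjA : Function.Injective (algebraMap (MvPowerSeries (Fin n) Λ) R) := hinj
  obtain ⟨b, hb⟩ := Groth.Agent.S11641.result (MvPowerSeries (Fin n) Λ) R hinjA p hp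
  haveI hGor : LocCoh.IsGorensteinLocalRing
      ↥(Algebra.adjoin (MvPowerSeries (Fin n) Λ) ({b} : Set R)) :=
    Groth.Agent.H44.HL_E.adjoin_gorenstein (MvPowerSeries (Fin n) Λ) R hinjA b
  haveI : IsNoetherian (MvPowerSeries (Fin n) Λ) R := isNoetherian_of_isNoetherianRing_of_finite _ _
  haveI : Module.Finite (MvPowerSeries (Fin n) Λ)
      ↥(Algebra.adjoin (MvPowerSeries (Fin n) Λ) ({b} : Set R)) :=
    Module.Finite.of_injective
      (Algebra.adjoin (MvPowerSeries (Fin n) Λ) ({b} : Set R)).val.toLinearMap Subtype.val_injective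
  haveI : IsAdicComplete (maximalIdeal ↥(Algebra.adjoin (MvPowerSeries (Fin n) Λ) ({b} : Set R)))
      ↥(Algebra.adjoin (MvPowerSeries (Fin n) Λ) ({b} : Set R)) :=
    Groth.Agent.H84.HL_K.complete_of_finite (MvPowerSeries (Fin n) Λ) _
  haveI : Algebra.IsIntegral (MvPowerSeries (Fin n) Λ) R := Algebra.IsIntegral.of_finite _ _
  haveI : Algebra.IsIntegral ↥(Algebra.adjoin (MvPowerSeries (Fin n) Λ) ({b} : Set R)) R :=
    Algebra.IsIntegral.tower_top (R := MvPowerSeries (Fin n) Λ)
  have hdB : ringKrullDim ↥(Algebra.adjoin (MvPowerSeries (Fin n) Λ) ({b} : Set R)) = d := by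
    rw [← hd]
    exact (Groth.Agent.H54.ringKrullDim_eq_of_isIntegral_of_injective
      (R := ↥(Algebra.adjoin (MvPowerSeries (Fin n) Λ) ({b} : Set R))) (S := R)
      Subtype.val_injective).symm
  set B := ↥(Algebra.adjoin (MvPowerSeries (Fin n) Λ) ({b} : Set R)) with hB
  have hq : ringKrullDim (B ⧸ p.comap (algebraMap B R)) = 1 := by
    rw [← hp]
    exact (Groth.Agent.H54.ringKrullDim_eq_of_isIntegral_of_injective
      (R := B ⧸ p.comap (algebraMap B R)) (S := R ⧸ p)
      (Ideal.algebraMap_quotient_injective)).symm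
  have hG : Subsingleton (LocCoh.H (p.comap (algebraMap B R)) d B) :=
    Groth.Agent.H84.HL_G.gor_case B d hdB (p.comap (algebraMap B R)) hq
  have hrad : ((p.comap (algebraMap B R)).map (algebraMap B R)).radical = p.radical := by
    rw [Ideal.IsPrime.radical ‹p.IsPrime›]
    conv_rhs => rw [← hb]
    congr 1
    rw [Ideal.map]
    congr 1
    ext x
    constructor
    · rintro ⟨y, hy, rfl⟩
      exact ⟨hy, y.2⟩
    · rintro ⟨hx1, hx2⟩
      exact ⟨⟨x, hx2⟩, hx1, rfl⟩
  exact Groth.Agent.H44.HL_C1.transfer B R d hdB (p.comap (algebraMap B R)) hG p hrad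

/-- **Hartshorne–Lichtenbaum vanishing.** -/
theorem main (R : Type u) [CommRing R] [IsLocalRing R] [IsNoetherianRing R] (I : Ideal R) (d : ℕ)
    (hd : ringKrullDim R = d)
    (h : ∀ p ∈ minimalPrimes (AdicCompletion (maximalIdeal R) R),
      ringKrullDim (AdicCompletion (maximalIdeal R) R ⧸ p) = d →
      1 ≤ ringKrullDim (AdicCompletion (maximalIdeal R) R ⧸
        (I.map (algebraMap R (AdicCompletion (maximalIdeal R) R)) ⊔ p)))
    (M : Type u) [AddCommGroup M] [Module R M] (i : ℕ) (hi : d ≤ i) :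
    Subsingleton (LocCoh.H I i M) := by
  obtain ⟨hN, hC, hdim, hFF⟩ := Groth.Agent.H84.HL_CPL.completion_facts R
  haveI := hN
  haveI := hC
  haveI := hFF
  have hd' : ringKrullDim (AdicCompletion (maximalIdeal R) R) = d := hdim.trans hd
  haveI h0 : Subsingleton (LocCoh.H (I.map (algebraMap R (AdicCompletion (maximalIdeal R) R))) d
      (TensorProduct R (AdicCompletion (maximalIdeal R) R) R)) :=
    Groth.Agent.H20.HL_D1.complete_case (fun R _ _ _ _ _ d hd p _ hp => complete_domain_case R d hd p hp)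
      (AdicCompletion (maximalIdeal R) R) d hd'
      (I.map (algebraMap R (AdicCompletion (maximalIdeal R) R))) h _ d le_rfl
  obtain ⟨e⟩ := Groth.Agent.S11617.result R (AdicCompletion (maximalIdeal R) R) I R d
  haveI h1 : Subsingleton (TensorProduct R (AdicCompletion (maximalIdeal R) R) (LocCoh.H I d R)) :=
    e.toEquiv.subsingleton
  have h2 : Subsingleton (LocCoh.H I d R) :=
    Module.FaithfullyFlat.lTensor_reflects_triviality R (AdicCompletion (maximalIdeal R) R) _
  have hsupp : ∀ p ∈ minimalPrimes R, ringKrullDim (R ⧸ p) = d → ∀ hp : p.IsPrime,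
      (⟨p, hp⟩ : PrimeSpectrum R) ∈ Module.support R R := by
    intro p _ _ hp
    rw [Module.support_of_algebra, PrimeSpectrum.mem_zeroLocus]
    intro x hx
    have hx0 : x = 0 := by simpa using hx
    rw [hx0]
    exact p.zero_mem
  exact Groth.Agent.S0333.result R I d hd R hsupp h2 M i hi

end Groth.Agent.H55.HL
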