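import Mathlib
import Groth.Prelude.Def_Wider
import Groth.Prelude.Def_CAlg
import Groth.Agent.H26.HL_Q2
import Groth.Agent.H51.HL_Q1
import Groth.Agent.H58.HL_Q3
import Groth.Agent.H44.HL_Q4
import Groth.Agent.H11.HL_Q5
import Groth.Agent.H97.HL_Q6
import Groth.Agent.H58.LCBasic
import Groth.Agent.S2936
import Groth.Agent.S11625
import Groth.Agent.S11672

/-!
# Coassociated primes of the top local cohomology module (S17759): assembly (helper55)
-/

set_option autoImplicit false
set_option linter.style.haveILetI false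
universe u
open IsLocalRing CategoryTheory

namespace Groth.Agent.H55.HL


/-- local cohomology with support in the unit ideal vanishes -/
theorem subsingleton_H_top {R : Type u} [CommRing R] (i : ℕ) (X : Type u) [AddCommGroup X]
    [Module R X] : Subsingleton (LocCoh.H (⊤ : Ideal R) i X) := by
  refine ⟨fun a b => ?_⟩
  have key : ∀ y : LocCoh.H (⊤ : Ideal R) i X, y = 0 := by
    intro y
    obtain ⟨n, x, rfl⟩ := Groth.Agent.H58.LC.exists_rep (⊤ : Ideal R) i (ModuleCat.of R X) y
    have hsub : Subsingleton (R ⧸ (⊤ : Ideal R) ^ n) := by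
      rw [Ideal.top_pow]
      exact Ideal.Quotient.subsingleton_iff.2 rfl
    have hz : Limits.IsZero (Groth.Agent.H58.LC.Q (⊤ : Ideal R) n) :=
      ModuleCat.isZero_of_subsingleton _
    have hx : x = 0 := by
      have h1 : (Abelian.Ext.mk₀ (𝟙 (Groth.Agent.H58.LC.Q (⊤ : Ideal R) n))).comp x (zero_add i) = x :=
        Abelian.Ext.mk₀_id_comp x
      rw [← h1, hz.eq_of_src (𝟙 _) 0, Abelian.Ext.mk₀_zero, Abelian.Ext.zero_comp]
    rw [hx, map_zero]
  rw [key a, key b]

/-- the set of primes in question -/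
def PhiSet (R : Type u) [CommRing R] [IsLocalRing R] (I : Ideal R) (M : Type u) [AddCommGroup M]
    [Module R M] (n : ℕ) : Set (Ideal R) :=
  {p : Ideal R | p.IsPrime ∧ Module.annihilator R M ≤ p ∧ ringKrullDim (R ⧸ p) = n ∧
    (I ⊔ p).radical = maximalIdeal R}

/-- splitting off the part of `M` that carries the top local cohomology -/
theorem split (R : Type u) [CommRing R] [IsNoetherianRing R] [IsLocalRing R]
    [IsAdicComplete (maximalIdeal R) R] (I : Ideal R) (M : Type u)
    [AddCommGroup M] [Module R M] [Module.Finite R M] (n : ℕ) (hn : Module.supportDim R M = n) :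
    ∃ N : Submodule R M, associatedPrimes R (M ⧸ N) = PhiSet R I M n ∧
      Nonempty (LocCoh.H I n M ≃ₗ[R] LocCoh.H I n (M ⧸ N)) := by
  classical
  set Φ : Set (Ideal R) := PhiSet R I M n with hΦ
  obtain ⟨-, hmin⟩ := Groth.Agent.H97.HL_Q6.dim_facts R M
  have hΦmin : Φ ⊆ (Module.annihilator R M).minimalPrimes := by
    rintro p ⟨hp, hle, hdim, -⟩
    haveI := hp
    exact hmin n hn p hle hdim
  obtain ⟨N, hN1, hN2⟩ := Groth.Agent.H51.HL_Q1.exists_submodule_split R M Φ hΦmin
  have hNdim : Module.supportDim R N ≤ (n : WithBot ℕ∞) := by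
    rw [← hn]
    exact Module.supportDim_le_of_injective N.subtype N.injective_subtype
  have hN0 : Subsingleton (LocCoh.H I n N) := by
    by_cases hI : I = ⊤
    · rw [hI]
      exact subsingleton_H_top n N
    refine Groth.Agent.H26.HL_Q2.hlvt_module R I N n hNdim ?_
    intro p hp hpn
    have hpM : p ∈ Module.support R M :=
      Module.support_subset_of_injective N.subtype N.injective_subtype hp
    have hann : Module.annihilator R M ≤ p.asIdeal := Module.mem_support_iff_of_finite.1 hpM
    by_contra hdim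
    have hne : I ⊔ p.asIdeal ≠ ⊤ := by
      intro h
      have hle : I ⊔ p.asIdeal ≤ maximalIdeal R :=
        sup_le (le_maximalIdeal hI) (le_maximalIdeal p.2.ne_top)
      rw [h] at hle
      exact (maximalIdeal.isMaximal R).ne_top (top_le_iff.1 hle)
    have hrad := Groth.Agent.S11672.radical_eq_maximalIdeal_of_dim _ hne hdim
    exact hN1 p ⟨p.2, hann, hpn, hrad⟩ hp
  have hN1' : Subsingleton (LocCoh.H I (n + 1) N) := by
    refine Groth.Agent.S11625.result R I N (n + 1) (lt_of_le_of_lt hNdim ?_)
    exact_mod_cast Nat.lt_succ_self n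
  exact ⟨N, hN2, Groth.Agent.H58.HL_Q3.H_equiv_quotient R I M N n hN0 hN1'⟩

/-- the quotient carrying the top local cohomology: its support meets `V(I)` only in the closed
point, it has dimension `n`, and its local cohomology can be computed with the maximal ideal -/
theorem quotient_facts (R : Type u) [CommRing R] [IsNoetherianRing R] [IsLocalRing R]
    (I : Ideal R) (M : Type u) [AddCommGroup M] [Module R M] [Module.Finite R M] (n : ℕ)
    (hn : Module.supportDim R M = n) (N : Submodule R M)
    (hN2 : associatedPrimes R (M ⧸ N) = PhiSet R I M n) [Nontrivial (M ⧸ N)] :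
    (I ⊔ Module.annihilator R (M ⧸ N)).radical = maximalIdeal R ∧
      Nonempty (LocCoh.H I n (M ⧸ N) ≃ₗ[R] LocCoh.H (maximalIdeal R) n (M ⧸ N)) ∧
      Module.supportDim R (M ⧸ N) = n := by
  have hrad : (I ⊔ Module.annihilator R (M ⧸ N)).radical = maximalIdeal R :=
    Groth.Agent.H11.HL_Q5.radical_sup_annihilator R I (M ⧸ N) (fun p hp => by
      rw [hN2] at hp
      exact hp.2.2.2)
  have hannle : Module.annihilator R (M ⧸ N) ≤ maximalIdeal R := by
    refine le_maximalIdeal ?_
    intro h
    have h1 : (1 : R) ∈ Module.annihilator R (M ⧸ N) := by rw [h]; trivial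
    obtain ⟨x, hx⟩ := exists_ne (0 : M ⧸ N)
    exact hx (by simpa using Module.mem_annihilator.1 h1 x)
  have hrad' : (maximalIdeal R ⊔ Module.annihilator R (M ⧸ N)).radical = maximalIdeal R := by
    rw [sup_eq_left.2 hannle]
    exact (maximalIdeal.isMaximal R).isPrime.radical
  refine ⟨hrad, Groth.Agent.H44.HL_Q4.H_equiv_of_radical_sup_annihilator R I (maximalIdeal R)
    (M ⧸ N) (hrad.trans hrad'.symm) n, ?_⟩
  apply le_antisymm
  · rw [← hn]
    exact Module.supportDim_le_of_surjective N.mkQ N.mkQ_surjective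
  · obtain ⟨p, hp⟩ := associatedPrimes.nonempty R (M ⧸ N)
    have hpΦ : p ∈ PhiSet R I M n := hN2 ▸ hp
    have hpann : Module.annihilator R (M ⧸ N) ≤ p := by
      have := IsAssociatedPrime.annihilator_le hp
      rwa [Submodule.annihilator_top] at this
    have hps : (⟨p, hpΦ.1⟩ : PrimeSpectrum R) ∈ Module.support R (M ⧸ N) :=
      Module.mem_support_iff_of_finite.2 hpann
    have := (Groth.Agent.H97.HL_Q6.dim_facts R (M ⧸ N)).1 ⟨p, hpΦ.1⟩ hps
    rw [hpΦ.2.2.1] at this
    exact this

/-- **Coassociated primes of the top local cohomology module** (complete local ring). -/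
theorem coass (R : Type u) [CommRing R] [IsNoetherianRing R] [IsLocalRing R]
    [IsAdicComplete (maximalIdeal R) R] (E : Type u) [AddCommGroup E] [Module R E]
    (f : ResidueField R →ₗ[R] E) (hf : InjHull.IsInjectiveHull f) (I : Ideal R) (M : Type u)
    [AddCommGroup M] [Module R M] [Module.Finite R M] (n : ℕ) (hn : Module.supportDim R M = n) :
    associatedPrimes R (LocCoh.H I n M →ₗ[R] E) =
      {p : Ideal R | p.IsPrime ∧ Module.annihilator R M ≤ p ∧ ringKrullDim (R ⧸ p) = n ∧
        (I ⊔ p).radical = maximalIdeal R} := by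
  classical
  obtain ⟨N, hN2, ⟨e1⟩⟩ := split R I M n hn
  show _ = PhiSet R I M n
  by_cases hM'' : Subsingleton (M ⧸ N)
  · have hΦe : PhiSet R I M n = ∅ := by
      rw [← hN2]
      exact associatedPrimes.eq_empty_of_subsingleton
    have hbot : Module.supportDim R (M ⧸ N) < (n : WithBot ℕ∞) := by
      have : Module.supportDim R (M ⧸ N) = ⊥ := by
        by_contra h
        exact (not_nontrivial_iff_subsingleton.2 hM'')
          ((Module.supportDim_ne_bot_iff_nontrivial R (M ⧸ N)).1 h)
      rw [this]
      exact WithBot.bot_lt_coe _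
    haveI : Subsingleton (LocCoh.H I n (M ⧸ N)) := Groth.Agent.S11625.result R I (M ⧸ N) n hbot
    haveI : Subsingleton (LocCoh.H I n M) := e1.toEquiv.subsingleton
    haveI : Subsingleton (LocCoh.H I n M →ₗ[R] E) :=
      ⟨fun a b => LinearMap.ext fun x => by rw [Subsingleton.elim x 0, map_zero, map_zero]⟩
    rw [hΦe]
    exact associatedPrimes.eq_empty_of_subsingleton
  · haveI : Nontrivial (M ⧸ N) := not_subsingleton_iff_nontrivial.1 hM''
    obtain ⟨-, ⟨e2⟩, hdim''⟩ := quotient_facts R I M n hn N hN2
    obtain ⟨-, -, hAss⟩ := Groth.Agent.S2936.result R E f hf (M ⧸ N) n hdim''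
    have e : (LocCoh.H I n M →ₗ[R] E) ≃ₗ[R]
        (LocCoh.H (maximalIdeal R) n (M ⧸ N) →ₗ[R] E) :=
      LinearEquiv.congrLeft E R (e1.trans e2)
    rw [LinearEquiv.AssociatedPrimes.eq e, hAss, hN2]
    ext p
    constructor
    · rintro ⟨hp, -⟩
      exact hp
    · intro hp
      exact ⟨hp, hp.2.2.1⟩

/-- structure of the top local cohomology over a complete local ring -/
theorem top_structure (R : Type u) [CommRing R] [IsNoetherianRing R] [IsLocalRing R]
    [IsAdicComplete (maximalIdeal R) R] (I : Ideal R) (M : Type u)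
    [AddCommGroup M] [Module R M] [Module.Finite R M] (n : ℕ) (hn : Module.supportDim R M = n) :
    Subsingleton (LocCoh.H I n M) ∨
      ∃ (M'' : Type u) (_ : AddCommGroup M'') (_ : Module R M'') (_ : Module.Finite R M''),
        (I ⊔ Module.annihilator R M'').radical = maximalIdeal R ∧
        Nonempty (LocCoh.H I n M ≃ₗ[R] LocCoh.H (maximalIdeal R) n M'') := by
  classical
  obtain ⟨N, hN2, ⟨e1⟩⟩ := split R I M n hn
  by_cases hM'' : Subsingleton (M ⧸ N)
  · left
    have hbot : Module.supportDim R (M ⧸ N) < (n : WithBot ℕ∞) := by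
      have : Module.supportDim R (M ⧸ N) = ⊥ := by
        by_contra h
        exact (not_nontrivial_iff_subsingleton.2 hM'')
          ((Module.supportDim_ne_bot_iff_nontrivial R (M ⧸ N)).1 h)
      rw [this]
      exact WithBot.bot_lt_coe _
    haveI : Subsingleton (LocCoh.H I n (M ⧸ N)) := Groth.Agent.S11625.result R I (M ⧸ N) n hbot
    exact e1.toEquiv.subsingleton
  · right
    haveI : Nontrivial (M ⧸ N) := not_subsingleton_iff_nontrivial.1 hM''
    obtain ⟨hrad, ⟨e2⟩, -⟩ := quotient_facts R I M n hn N hN2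
    exact ⟨M ⧸ N, inferInstance, inferInstance, inferInstance, hrad, ⟨e1.trans e2⟩⟩

end Groth.Agent.H55.HL
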