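import Mathlib
import Groth.Prelude.Def_Wider
import Groth.Prelude.Def_CAlg
import Groth.Agent.H55.HL.Coass
import Groth.Agent.H33.HL_T1
import Groth.Agent.H58.HL_T4
import Groth.Agent.H33.HL_T2
import Groth.Agent.H58.HL_T5
import Groth.Agent.H58.HL_T6
import Groth.Agent.H84.HL_CPL
import Groth.Agent.S0817

/-!
# Cofiniteness of the top local cohomology module (S17760): assembly (helper55)
-/

set_option autoImplicit false
set_option linter.style.haveILetI false
universe u
open IsLocalRing CategoryTheory Opposite

namespace Groth.Agent.H55.HL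


/-- the complete case -/
theorem ext_finiteLength_complete (S : Type u) [CommRing S] [IsNoetherianRing S] [IsLocalRing S]
    [IsAdicComplete (maximalIdeal S) S] (J : Ideal S) (M' : Type u) [AddCommGroup M']
    [Module S M'] [Module.Finite S M'] (n : ℕ)
    (hn : Module.supportDim S M' ≤ (n : WithBot ℕ∞)) (i : ℕ) :
    IsFiniteLength S
      (Abelian.Ext (ModuleCat.of S (S ⧸ J)) (ModuleCat.of S (LocCoh.H J n M')) i) := by
  rcases hn.lt_or_eq with hlt | heq
  · have hsub : Subsingleton (LocCoh.H J n M') := Groth.Agent.S11625.result S J M' n hlt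
    exact (Groth.Agent.H58.HLT.ext_finiteLength_congr S _ (LocCoh.H J n M') (LocCoh.H J n M') i).2 hsub
  · rcases top_structure S J M' n heq with hsub | ⟨M'', _, _, _, hrad, ⟨e⟩⟩
    · exact (Groth.Agent.H58.HLT.ext_finiteLength_congr S _ (LocCoh.H J n M') (LocCoh.H J n M') i).2 hsub
    · haveI : IsArtinian S (LocCoh.H (maximalIdeal S) n M'') := Groth.Agent.S0817.result S M'' n
      have h1 := Groth.Agent.H58.HLT.ext_finiteLength_of_artinian S J (LocCoh.H (maximalIdeal S) n M'')
        (Module.annihilator S M'') (Groth.Agent.H58.HLT.annihilator_le_annihilator_H S _ n M'') hrad i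
      exact (Groth.Agent.H58.HLT.ext_finiteLength_congr S _ _ _ i).1 e h1

/-- **Cofiniteness of the top local cohomology module** (Delfino–Marley). -/
theorem cofinite (R : Type u) [CommRing R] [IsNoetherianRing R] [IsLocalRing R] (I : Ideal R)
    (M : Type u) [AddCommGroup M] [Module R M] [Module.Finite R M] (n : ℕ)
    (hn : Module.supportDim R M = n) (i : ℕ) :
    IsFiniteLength R (((Ext R (ModuleCat.{u} R) i).obj (op (ModuleCat.of R (R ⧸ I)))).obj
      (ModuleCat.of R (LocCoh.H I n M))) := by
  obtain ⟨hN, hC, -, -⟩ := Groth.Agent.H84.HL_CPL.completion_facts R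
  haveI := hN
  haveI := hC
  refine Groth.Agent.H33.HL_T1.ext_finiteLength_descent R I M n i ?_
  exact ext_finiteLength_complete (AdicCompletion (maximalIdeal R) R)
    (I.map (algebraMap R (AdicCompletion (maximalIdeal R) R)))
    (TensorProduct R (AdicCompletion (maximalIdeal R) R) M) n
    ((Groth.Agent.H33.HL_T2.supportDim_completion_le R M).trans hn.le) i

end Groth.Agent.H55.HL
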